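import Groth.Agent.S0238
import Groth.Agent.Lib.Pur25.Regular
import Groth.Agent.Lib.FlatDepth.Fibre
import Groth.Agent.Lib.Depth.More
import Groth.Agent.Lib.Depth3.Zero

/-!
# Purity along thickenings and flat local homomorphisms
-/

set_option autoImplicit false
set_option linter.style.haveILetI false

universe u

open CategoryTheory CategoryTheory.Limits AlgebraicGeometry TopologicalSpace
open scoped TensorProduct

noncomputable section

namespace Groth.Agent.PurityFlat25

open Groth.Agent.Pur25

/-- Purity is inherited along a surjection with nil kernel. -/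
theorem purityHolds_of_thickening {A A₀ : Type u} [CommRing A] [CommRing A₀] [IsLocalRing A] [IsLocalRing A₀]
    (φ : A →+* A₀) (hs : Function.Surjective φ) (hk : RingHom.ker φ ≤ nilradical A)
    (h : FEt.PurityHolds A₀) : FEt.PurityHolds A := by
  refine ⟨fun V => ?_⟩
  let qA := Spec.map (CommRingCat.ofHom φ)
  let U := FEt.puncturedSpec A
  let U' := FEt.puncturedSpec A₀
  haveI : IsClosedImmersion qA := IsClosedImmersion.spec_of_surjective _ hs
  haveI hqs : Surjective qA := ⟨fun p => by
    obtain ⟨q, hq⟩ : p ∈ Set.range (PrimeSpectrum.comap φ) := by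
      rw [range_comap_of_surjective _ _ hs]
      exact fun a ha => (nilradical_le_prime p.asIdeal) (hk ha)
    exact ⟨q, hq⟩⟩
  have hcl : qA (IsLocalRing.closedPoint A₀) = IsLocalRing.closedPoint A := by
    refine PrimeSpectrum.ext ?_
    haveI : (IsLocalRing.maximalIdeal A₀).IsMaximal := inferInstance
    exact IsLocalRing.eq_maximalIdeal (Ideal.comap_isMaximal_of_surjective (K := IsLocalRing.maximalIdeal A₀) φ hs)
  have hr : Set.range (pullback.snd U.ι qA) = Set.range U'.ι := by
    rw [Scheme.Pullback.range_snd, Scheme.Opens.range_ι, Scheme.Opens.range_ι]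
    ext q
    show ¬ qA q = IsLocalRing.closedPoint A ↔ ¬ q = IsLocalRing.closedPoint _
    refine not_congr ⟨fun h1 => ?_, fun h1 => h1 ▸ hcl⟩
    exact PrimeSpectrum.comap_injective_of_surjective _ hs (h1.trans hcl.symm)
  let ψ : pullback U.ι qA ≅ (U' : Scheme.{u}) :=
    IsOpenImmersion.isoOfRangeEq (pullback.snd U.ι qA) U'.ι hr
  have hψ : ψ.hom ≫ U'.ι = pullback.snd _ qA := IsOpenImmersion.isoOfRangeEq_hom_fac _ _ _
  haveI : (FEt.restrict U'.ι).EssSurj := h
  let a := pullback.fst U.ι qA
  let b := pullback.snd U.ι qA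
  let W := (FEt.restrict a).obj V
  let Y₀ := (FEt.restrict U'.ι).objPreimage ((FEt.restrict ψ.inv).obj W)
  let e : (FEt.restrict b).obj Y₀ ≅ W :=
    (MorphismProperty.Over.pullbackCongr hψ.symm).app Y₀ ≪≫ (restrictComp ψ.hom U'.ι).app Y₀ ≪≫
      (FEt.restrict ψ.hom).mapIso ((FEt.restrict U'.ι).objObjPreimageIso _) ≪≫
      (restrictComp ψ.hom ψ.inv).symm.app W ≪≫ (MorphismProperty.Over.pullbackCongr ψ.hom_inv_id).app W ≪≫
      restrictId W
  haveI := Groth.Agent.S0238.result qA
  haveI : IsClosedImmersion a := MorphismProperty.pullback_fst _ _ inferInstance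
  haveI : Surjective a := MorphismProperty.pullback_fst _ _ hqs
  haveI := Groth.Agent.S0238.result a
  let Y := (FEt.restrict qA).objPreimage Y₀
  let e₁ : (FEt.restrict a).obj ((FEt.restrict U.ι).obj Y) ≅ (FEt.restrict a).obj V :=
    (restrictSquare U.ι a qA b pullback.condition.symm).app Y ≪≫
      (FEt.restrict b).mapIso ((FEt.restrict qA).objObjPreimageIso _) ≪≫ e
  exact ⟨Y, ⟨(Functor.FullyFaithful.ofFullyFaithful (FEt.restrict a)).preimageIso e₁⟩⟩

section Flat

variable {A B : Type u} [CommRing A] [CommRing B] [IsLocalRing A] [IsLocalRing B]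
  [IsNoetherianRing A] [IsNoetherianRing B] [Algebra A B] [IsLocalHom (algebraMap A B)] [Module.Flat A B]

/-- The depth of `B / IB`. -/
theorem depth_quot (I : Ideal A) [IsLocalRing (B ⧸ I.map (algebraMap A B))]
    [IsLocalRing (B ⧸ (IsLocalRing.maximalIdeal A).map (algebraMap A B))] :
    LocCoh.depth (B ⧸ I.map (algebraMap A B)) (B ⧸ I.map (algebraMap A B)) =
      LocCoh.depth A (A ⧸ I) + LocCoh.depth (B ⧸ (IsLocalRing.maximalIdeal A).map (algebraMap A B))
        (B ⧸ (IsLocalRing.maximalIdeal A).map (algebraMap A B)) := by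
  have key : ∀ (J : Ideal A) [IsLocalRing (B ⧸ J.map (algebraMap A B))],
      LocCoh.depth (B ⧸ J.map (algebraMap A B)) (B ⧸ J.map (algebraMap A B)) =
        LocCoh.depth B (B ⊗[A] (A ⧸ J)) := by
    intro J _
    rw [← FlatDepth.depth_eq_of_surjective (A := B) (M := B ⧸ J.map (algebraMap A B))
      Ideal.Quotient.mk_surjective]
    refine (DepthLib.idealDepth_congr ((FlatDepth.tensorQuotEquiv (S := B) B J).trans
      (Submodule.quotEquivOfEq _ _ ?_))).symm
    rw [smul_eq_mul, Ideal.mul_top]
  rw [key, key, FlatDepth.depth_tensor]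

/-- Purity for all quotients `B / IB`, given purity and depth two of the closed fibre. -/
theorem purityHolds_quot [IsLocalRing (B ⧸ (IsLocalRing.maximalIdeal A).map (algebraMap A B))]
    (hd : (2 : ℕ∞) ≤ LocCoh.depth (B ⧸ (IsLocalRing.maximalIdeal A).map (algebraMap A B))
      (B ⧸ (IsLocalRing.maximalIdeal A).map (algebraMap A B)))
    (h0 : FEt.PurityHolds (B ⧸ (IsLocalRing.maximalIdeal A).map (algebraMap A B))) :
    ∀ (I : Ideal A), I ≤ IsLocalRing.maximalIdeal A → ∀ [IsLocalRing (B ⧸ I.map (algebraMap A B))],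
      FEt.PurityHolds (B ⧸ I.map (algebraMap A B)) := by
  have loc : ∀ J : Ideal A, J ≤ IsLocalRing.maximalIdeal A → IsLocalRing (B ⧸ J.map (algebraMap A B)) := by
    intro J hJ
    have : Nontrivial (B ⧸ J.map (algebraMap A B)) := by
      rw [Ideal.Quotient.nontrivial_iff]
      exact ne_top_of_le_ne_top (IsLocalRing.maximalIdeal.isMaximal B).ne_top
        ((Ideal.map_mono hJ).trans (Ideal.map_le_iff_le_comap.2 fun a ha => map_nonunit _ a ha))
    exact IsLocalRing.of_surjective' _ Ideal.Quotient.mk_surjective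
  intro I
  induction I using (wellFounded_gt (α := Ideal A)).induction with
  | _ I ih =>
  intro hI hloc
  rcases eq_or_lt_of_le hI with rfl | hlt
  · exact h0
  haveI : Nontrivial (A ⧸ I) := Ideal.Quotient.nontrivial_iff.2
    (ne_top_of_le_ne_top (IsLocalRing.maximalIdeal.isMaximal A).ne_top hI)
  by_cases hz : LocCoh.depth A (A ⧸ I) = 0
  · obtain ⟨m, hm, hkill⟩ := (Depth3.mem_associatedPrimes_iff_exists _).1 (Depth3.depth_eq_zero_iff.1 hz)
    obtain ⟨x, rfl⟩ := Ideal.Quotient.mk_surjective m
    have hxI : x ∉ I := fun h => hm (Ideal.Quotient.eq_zero_iff_mem.2 h)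
    have hx : ∀ a ∈ IsLocalRing.maximalIdeal A, a * x ∈ I := by
      intro a ha
      rw [← Ideal.Quotient.eq_zero_iff_mem, map_mul]
      exact hkill a ha
    have hxm : x ∈ IsLocalRing.maximalIdeal A := by
      by_contra h
      have hu : IsUnit x := by simpa using h
      refine hlt.not_ge fun a ha => ?_
      exact (Ideal.mul_unit_mem_iff_mem I hu).1 (hx a ha)
    let I' := I ⊔ Ideal.span {x}
    have hI' : I' ≤ IsLocalRing.maximalIdeal A := sup_le hI (by rwa [Ideal.span_singleton_le_iff_mem])
    have hII' : I < I' := lt_of_le_of_ne le_sup_left fun h => hxI (h ▸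
      Ideal.mem_sup_right (Ideal.subset_span rfl))
    haveI := loc I' hI'
    refine purityHolds_of_thickening (Ideal.Quotient.factor (Ideal.map_mono le_sup_left))
      (Ideal.Quotient.factor_surjective _) ?_ (ih I' hII' hI')
    intro z hz
    obtain ⟨b, rfl⟩ := Ideal.Quotient.mk_surjective z
    rw [RingHom.mem_ker, Ideal.Quotient.factor_mk, Ideal.Quotient.eq_zero_iff_mem] at hz
    refine ⟨2, ?_⟩
    rw [← map_pow, Ideal.zero_eq_bot, Ideal.mem_bot, Ideal.Quotient.eq_zero_iff_mem, pow_two]
    have h2 : I' * I' ≤ I := by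
      simp only [I', Ideal.sup_mul, Ideal.mul_sup]
      refine sup_le (sup_le Ideal.mul_le_right Ideal.mul_le_right) (sup_le Ideal.mul_le_left ?_)
      rw [Ideal.span_singleton_mul_span_singleton, Ideal.span_singleton_le_iff_mem]
      exact hx x hxm
    have := Ideal.mul_mem_mul hz hz
    rw [← Ideal.map_mul] at this
    exact Ideal.map_mono h2 this
  · obtain ⟨f, hf, hreg⟩ : ∃ f ∈ IsLocalRing.maximalIdeal A, IsSMulRegular (A ⧸ I) f := by
      by_contra hc
      push Not at hc
      exact hz (Depth3.depth_eq_zero_iff.2 (Depth3.forall_not_regular_iff_mem_associatedPrimes.1 hc))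
    have hfI : f ∉ I := by
      intro h
      have h1 : f • (1 : A ⧸ I) = f • (0 : A ⧸ I) := by
        rw [smul_zero, Algebra.smul_def, mul_one, Ideal.Quotient.algebraMap_eq,
          Ideal.Quotient.eq_zero_iff_mem.2 h]
      exact one_ne_zero (hreg h1)
    let I' := I ⊔ Ideal.span {f}
    have hI' : I' ≤ IsLocalRing.maximalIdeal A := sup_le hI (by rwa [Ideal.span_singleton_le_iff_mem])
    have hII' : I < I' := lt_of_le_of_ne le_sup_left fun h => hfI (h ▸
      Ideal.mem_sup_right (Ideal.subset_span rfl))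
    haveI := loc I' hI'
    let C := B ⧸ I.map (algebraMap A B)
    let g : C := Ideal.Quotient.mk _ (algebraMap A B f)
    have hdep : (3 : ℕ∞) ≤ LocCoh.depth C C := by
      rw [depth_quot I]
      have h1 : (1 : ℕ∞) ≤ LocCoh.depth A (A ⧸ I) := DepthLib.one_le_idealDepth_of_regular hf hreg
      calc (3 : ℕ∞) = 1 + 2 := by norm_num
        _ ≤ _ := add_le_add h1 hd
    have hgm : g ∈ IsLocalRing.maximalIdeal C := by
      intro hu
      exact map_nonunit (algebraMap A B) f hf
        ((IsLocalHom.of_surjective (Ideal.Quotient.mk _) Ideal.Quotient.mk_surjective).map_nonunit _ hu)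
    haveI : IsLocalRing (C ⧸ Ideal.span {g}) := by
      have : Nontrivial (C ⧸ Ideal.span {g}) := by
        rw [Ideal.Quotient.nontrivial_iff]
        exact ne_top_of_le_ne_top (IsLocalRing.maximalIdeal.isMaximal C).ne_top
          (by rwa [Ideal.span_singleton_le_iff_mem])
      exact IsLocalRing.of_surjective' _ Ideal.Quotient.mk_surjective
    refine purity_step hdep hgm ?_
    have hle : Ideal.span {g} ≤
        RingHom.ker (Ideal.Quotient.factor (Ideal.map_mono (f := algebraMap A B) (le_sup_left : I ≤ I'))) := by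
      rw [Ideal.span_singleton_le_iff_mem, RingHom.mem_ker]
      show Ideal.Quotient.factor _ (Ideal.Quotient.mk _ (algebraMap A B f)) = 0
      rw [Ideal.Quotient.factor_mk, Ideal.Quotient.eq_zero_iff_mem]
      exact Ideal.mem_map_of_mem _ (Ideal.mem_sup_right (Ideal.subset_span rfl))
    refine purityHolds_of_thickening (Ideal.Quotient.lift (Ideal.span {g}) _ hle)
      (Ideal.Quotient.lift_surjective_of_surjective _ hle (Ideal.Quotient.factor_surjective _)) ?_
      (ih I' hII' hI')
    intro z hz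
    obtain ⟨c, rfl⟩ := Ideal.Quotient.mk_surjective z
    obtain ⟨b, rfl⟩ := Ideal.Quotient.mk_surjective c
    rw [RingHom.mem_ker, Ideal.Quotient.lift_mk, Ideal.Quotient.factor_mk, Ideal.Quotient.eq_zero_iff_mem,
      Ideal.map_sup, Ideal.map_span, Set.image_singleton, Submodule.mem_sup] at hz
    obtain ⟨y, hy, w, hw, rfl⟩ := hz
    rw [Ideal.mem_span_singleton'] at hw
    obtain ⟨t, rfl⟩ := hw
    have : Ideal.Quotient.mk (Ideal.span {g}) (Ideal.Quotient.mk _ (y + t * algebraMap A B f)) = 0 := by
      rw [Ideal.Quotient.eq_zero_iff_mem, map_add, Ideal.Quotient.eq_zero_iff_mem.2 hy, zero_add, map_mul]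
      exact Ideal.mem_span_singleton'.2 ⟨_, rfl⟩
    rw [this]
    exact zero_mem _

/-- **Purity along a flat local homomorphism.** -/
theorem purityHolds_of_flat [IsLocalRing (B ⧸ (IsLocalRing.maximalIdeal A).map (algebraMap A B))]
    (hd : (2 : ℕ∞) ≤ LocCoh.depth (B ⧸ (IsLocalRing.maximalIdeal A).map (algebraMap A B))
      (B ⧸ (IsLocalRing.maximalIdeal A).map (algebraMap A B)))
    (h0 : FEt.PurityHolds (B ⧸ (IsLocalRing.maximalIdeal A).map (algebraMap A B))) :
    FEt.PurityHolds B := by
  haveI : Nontrivial (B ⧸ (⊥ : Ideal A).map (algebraMap A B)) := by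
    rw [Ideal.Quotient.nontrivial_iff, Ideal.map_bot]
    exact bot_ne_top
  haveI : IsLocalRing (B ⧸ (⊥ : Ideal A).map (algebraMap A B)) :=
    IsLocalRing.of_surjective' _ Ideal.Quotient.mk_surjective
  refine purityHolds_of_thickening (Ideal.Quotient.mk _) Ideal.Quotient.mk_surjective ?_
    (purityHolds_quot hd h0 ⊥ bot_le)
  rw [Ideal.mk_ker, Ideal.map_bot]
  exact bot_le

end Flat

end Groth.Agent.PurityFlat25
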